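import Mathlib
import Cfsg.Agent.Lib.Classical.Asch.SUThreeCubic

/-!
# Tables for the class 6 case of `SU₃(5)`
-/

set_option autoImplicit false
set_option maxRecDepth 100000

namespace Cfsg.Agent.Lib.Classical.Asch.SU3D

open Cfsg.Agent.Lib.Classical.Asch.SU3M Cfsg.Agent.Lib.Classical.Asch.SU3C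

def Zm : M3 := ⟨⟨⟨2, 2⟩, ⟨0, 0⟩, ⟨0, 0⟩⟩, ⟨⟨0, 0⟩, ⟨2, 2⟩, ⟨0, 0⟩⟩, ⟨⟨0, 0⟩, ⟨0, 0⟩, ⟨2, 2⟩⟩⟩
def a0 : M3 := ⟨⟨⟨1, 0⟩, ⟨0, 0⟩, ⟨0, 0⟩⟩, ⟨⟨0, 0⟩, ⟨2, 2⟩, ⟨0, 0⟩⟩, ⟨⟨0, 0⟩, ⟨0, 0⟩, ⟨2, 3⟩⟩⟩
def b0 : M3 := ⟨⟨⟨0, 0⟩, ⟨0, 0⟩, ⟨1, 0⟩⟩, ⟨⟨1, 0⟩, ⟨0, 0⟩, ⟨0, 0⟩⟩, ⟨⟨0, 0⟩, ⟨1, 0⟩, ⟨0, 0⟩⟩⟩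
def h1 : M3 := ⟨⟨⟨3, 1⟩, ⟨2, 1⟩, ⟨3, 1⟩⟩, ⟨⟨2, 1⟩, ⟨3, 1⟩, ⟨3, 1⟩⟩, ⟨⟨2, 1⟩, ⟨2, 1⟩, ⟨0, 3⟩⟩⟩
def h2 : M3 := ⟨⟨⟨3, 1⟩, ⟨2, 1⟩, ⟨2, 1⟩⟩, ⟨⟨2, 1⟩, ⟨3, 1⟩, ⟨2, 1⟩⟩, ⟨⟨3, 1⟩, ⟨3, 1⟩, ⟨0, 3⟩⟩⟩
def gA2 : M3 := ⟨⟨⟨4, 0⟩, ⟨1, 0⟩, ⟨1, 4⟩⟩, ⟨⟨1, 1⟩, ⟨2, 2⟩, ⟨4, 0⟩⟩, ⟨⟨1, 0⟩, ⟨3, 0⟩, ⟨2, 3⟩⟩⟩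
def gB2 : M3 := ⟨⟨⟨1, 0⟩, ⟨0, 0⟩, ⟨0, 0⟩⟩, ⟨⟨0, 0⟩, ⟨1, 1⟩, ⟨0, 2⟩⟩, ⟨⟨0, 0⟩, ⟨0, 2⟩, ⟨1, 4⟩⟩⟩
def w2 : V3 := ⟨⟨0, 0⟩, ⟨0, 1⟩, ⟨4, 3⟩⟩
def mask2 : ℕ := 61545376633440501936943140285418452211410452275709251450793545215492205844300631613634482163426912792492968951618152305422870236708041484972383431954051857060456409886848858768032086850251642297304578361650425502161902411915516275364109815253582421052709772315755938184396354472676477957533031399366263709378202606689252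05384245877952480277221199177001434266114978898327444956341433371589397181248971215277911091137370690367325409399130919249504306072238295981707955733400060472513131245703804307697023142722480645172156845006227846048297138301983695009951989401095090208956465636668710067801370284693345205901950050394114191379162739615834087239369130142865093511157887221165940622489650988964675387496585706787126559414393550447330925650570760059139651803384798792401410826378072343523313354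02783793037714304609212465093796079428130943519035967871421171278240583269428052022517960668831462767744743873824040104793486844417638532291491753399671803569244510734901367615756475168482887580305475528919434985729079133704898935658285311025724627678943169536051205197601475637761266309815972189745081019154208290605874448506732118409448909311143833768664357833837196802208810082048933160183072407047437807315489047568598834155126164085438940062872985379354741376861200008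57584629137309780040765657795091951427131864772304190901278368441792025180226178301582201878205165365657925603965783462044763962690023834776832031177140110575997182920592710970364268737191931671685346715084782050506126917589010065456907998785305893031890563262680424886374237964310577758650129676694590366758603848350499807265462762282767291722278496456183366967622550820714914983750529107907350147181222425424804431103288845233178540123220900709742773756187550296523887707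38385741965149862176128680228652417032613732141226561069394590446353575005999498780805120483391186708102371414798494192268557598313406867832190906184244051563698246931457192031795571562530828335793165649954926395278539665762327161145608682275407735952832466123812445932804092575796249025829382590186040144028573784772896499024384121885862010039390331852193718781961018021307362097156168053288582912719266447605164940417186833877870242097771803194184047160446774963797997721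61266077295595371119332233476167056687195991502107191310097065280609359074713080530995283697624633253091018119760217483017909592416059551851815250388702058046744217085708414615887620104239099352108090639401764218828271956324040614532285485676702552243071635354399091203988695538334997004404342529206453851516459708349829977102388558349935016966053436633037581374397880007109899835795036032590510070843281007262943169263406226619647996039535334392530800361907940269319506432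25663071009639663337896261165867082299741917278256558172043337381469661306282221116009478608989580648161872830447364350625483682589383117653602206157532732693854925501232060324376830115824031533208560123666079559647863007206245336393570763610546750306738485075275391521669376898944544139345853858851278788860924291902003721933934218876748241374819796136072404737616949748067278797822447278475909426036123798869411629100682753812608757623656649007170366221328387916353587414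60424527673502683008398487164382600512001104854739017258833732563101803457320696420861927568403658714601467361883132274366520796215580590511674463266726847547734483140518692601929444330603352806443965876247517993528630795397399767084096669256545429472988379928506763699590092695779076448067426608011286440462820355902562298913216697025390133200283486133330401214679116095402969259495733721857898469312917235699181251902765262579554860935899889700092035472371887393535819776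46476730861464268782284121236266941482826853910072770098915102977653403579964305284685934241280249467035715067227364334653677014888705433540061704893766912825057196602785427691877970011784931165132957310675119983344248783056439877313501597085919533250629892202303093819508247377303941660447426858448452773228794535122248913485556950951931371844996092750377191767828094545189145176244244171283621551127646541872093425476273265838772195941471842695936158933883727150368293255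7354581670652017584802362032815981100636647956369037003529179724396948165644304369167473900392641815435938586167825887825575363825002503777970557076035898419025603302429548482575412445707608880679098229381877180273850240943083853662727074737977062458764770933604565103292017962995533436196382797909557977935247253537852163744529567462336023574841402939838080844534935316567680059832199373095138856761794878171185530517195408125105933487652042378328089697845480367557360474856273609380023495138753136522623089532173045194989612720069830537214609786480132309999977477251777828834971984503420959588352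

def R1L : List M3 := [⟨⟨⟨0, 0⟩, ⟨0, 0⟩, ⟨1, 0⟩⟩, ⟨⟨1, 0⟩, ⟨0, 0⟩, ⟨0, 0⟩⟩, ⟨⟨0, 0⟩, ⟨1, 0⟩, ⟨0, 0⟩⟩⟩, ⟨⟨⟨0, 0⟩, ⟨0, 0⟩, ⟨1, 0⟩⟩, ⟨⟨2, 2⟩, ⟨0, 0⟩, ⟨0, 0⟩⟩, ⟨⟨0, 0⟩, ⟨2, 3⟩, ⟨0, 0⟩⟩⟩, ⟨⟨⟨0, 0⟩, ⟨0, 0⟩, ⟨1, 0⟩⟩, ⟨⟨2, 3⟩, ⟨0, 0⟩, ⟨0, 0⟩⟩, ⟨⟨0, 0⟩, ⟨2, 2⟩, ⟨0, 0⟩⟩⟩, ⟨⟨⟨0, 0⟩, ⟨0, 0⟩, ⟨2, 2⟩⟩, ⟨⟨1, 0⟩, ⟨0, 0⟩, ⟨0, 0⟩⟩, ⟨⟨0, 0⟩, ⟨2, 3⟩, ⟨0, 0⟩⟩⟩, ⟨⟨⟨0, 0⟩, ⟨0, 0⟩, ⟨2, 2⟩⟩, ⟨⟨2, 2⟩, ⟨0, 0⟩, ⟨0, 0⟩⟩, ⟨⟨0, 0⟩, ⟨2, 2⟩, ⟨0, 0⟩⟩⟩, ⟨⟨⟨0, 0⟩, ⟨0, 0⟩, ⟨2, 2⟩⟩, ⟨⟨2, 3⟩, ⟨0, 0⟩, ⟨0, 0⟩⟩,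 ⟨⟨0, 0⟩, ⟨1, 0⟩, ⟨0, 0⟩⟩⟩, ⟨⟨⟨0, 0⟩, ⟨0, 0⟩, ⟨2, 3⟩⟩, ⟨⟨1, 0⟩, ⟨0, 0⟩, ⟨0, 0⟩⟩, ⟨⟨0, 0⟩, ⟨2, 2⟩, ⟨0, 0⟩⟩⟩, ⟨⟨⟨0, 0⟩, ⟨0, 0⟩, ⟨2, 3⟩⟩, ⟨⟨2, 2⟩, ⟨0, 0⟩, ⟨0, 0⟩⟩, ⟨⟨0, 0⟩, ⟨1, 0⟩, ⟨0, 0⟩⟩⟩, ⟨⟨⟨0, 0⟩, ⟨0, 0⟩, ⟨2, 3⟩⟩, ⟨⟨2, 3⟩, ⟨0, 0⟩, ⟨0, 0⟩⟩, ⟨⟨0, 0⟩, ⟨2, 3⟩, ⟨0, 0⟩⟩⟩, ⟨⟨⟨0, 0⟩, ⟨1, 0⟩, ⟨0, 0⟩⟩, ⟨⟨0, 0⟩, ⟨0, 0⟩, ⟨1, 0⟩⟩, ⟨⟨1, 0⟩, ⟨0, 0⟩, ⟨0, 0⟩⟩⟩, ⟨⟨⟨0, 0⟩, ⟨1, 0⟩, ⟨0, 0⟩⟩, ⟨⟨0, 0⟩, ⟨0, 0⟩, ⟨2, 2⟩⟩, ⟨⟨2, 3⟩, ⟨0, 0⟩, ⟨0, 0⟩⟩⟩, ⟨⟨⟨0, 0⟩, ⟨1, 0⟩, ⟨0, 0⟩⟩, ⟨⟨0, 0⟩, ⟨0, 0⟩, ⟨2,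 3⟩⟩, ⟨⟨2, 2⟩, ⟨0, 0⟩, ⟨0, 0⟩⟩⟩, ⟨⟨⟨0, 0⟩, ⟨2, 2⟩, ⟨0, 0⟩⟩, ⟨⟨0, 0⟩, ⟨0, 0⟩, ⟨1, 0⟩⟩, ⟨⟨2, 3⟩, ⟨0, 0⟩, ⟨0, 0⟩⟩⟩, ⟨⟨⟨0, 0⟩, ⟨2, 2⟩, ⟨0, 0⟩⟩, ⟨⟨0, 0⟩, ⟨0, 0⟩, ⟨2, 2⟩⟩, ⟨⟨2, 2⟩, ⟨0, 0⟩, ⟨0, 0⟩⟩⟩, ⟨⟨⟨0, 0⟩, ⟨2, 2⟩, ⟨0, 0⟩⟩, ⟨⟨0, 0⟩, ⟨0, 0⟩, ⟨2, 3⟩⟩, ⟨⟨1, 0⟩, ⟨0, 0⟩, ⟨0, 0⟩⟩⟩, ⟨⟨⟨0, 0⟩, ⟨2, 3⟩, ⟨0, 0⟩⟩, ⟨⟨0, 0⟩, ⟨0, 0⟩, ⟨1, 0⟩⟩, ⟨⟨2, 2⟩, ⟨0, 0⟩, ⟨0, 0⟩⟩⟩, ⟨⟨⟨0, 0⟩, ⟨2, 3⟩, ⟨0, 0⟩⟩, ⟨⟨0, 0⟩, ⟨0, 0⟩, ⟨2, 2⟩⟩, ⟨⟨1, 0⟩, ⟨0, 0⟩, ⟨0, 0⟩⟩⟩, ⟨⟨⟨0, 0⟩, ⟨2, 3⟩, ⟨0, 0⟩⟩, ⟨⟨0, 0⟩, ⟨0, 0⟩,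 ⟨2, 3⟩⟩, ⟨⟨2, 3⟩, ⟨0, 0⟩, ⟨0, 0⟩⟩⟩, ⟨⟨⟨1, 0⟩, ⟨0, 0⟩, ⟨0, 0⟩⟩, ⟨⟨0, 0⟩, ⟨2, 2⟩, ⟨0, 0⟩⟩, ⟨⟨0, 0⟩, ⟨0, 0⟩, ⟨2, 3⟩⟩⟩, ⟨⟨⟨1, 0⟩, ⟨0, 0⟩, ⟨0, 0⟩⟩, ⟨⟨0, 0⟩, ⟨2, 3⟩, ⟨0, 0⟩⟩, ⟨⟨0, 0⟩, ⟨0, 0⟩, ⟨2, 2⟩⟩⟩, ⟨⟨⟨2, 2⟩, ⟨0, 0⟩, ⟨0, 0⟩⟩, ⟨⟨0, 0⟩, ⟨1, 0⟩, ⟨0, 0⟩⟩, ⟨⟨0, 0⟩, ⟨0, 0⟩, ⟨2, 3⟩⟩⟩, ⟨⟨⟨2, 2⟩, ⟨0, 0⟩, ⟨0, 0⟩⟩, ⟨⟨0, 0⟩, ⟨2, 2⟩, ⟨0, 0⟩⟩, ⟨⟨0, 0⟩, ⟨0, 0⟩, ⟨2, 2⟩⟩⟩, ⟨⟨⟨2, 2⟩, ⟨0, 0⟩, ⟨0, 0⟩⟩, ⟨⟨0, 0⟩, ⟨2, 3⟩, ⟨0, 0⟩⟩, ⟨⟨0, 0⟩, ⟨0, 0⟩, ⟨1, 0⟩⟩⟩, ⟨⟨⟨2, 3⟩, ⟨0, 0⟩, ⟨0, 0⟩⟩, ⟨⟨0, 0⟩, ⟨1,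 0⟩, ⟨0, 0⟩⟩, ⟨⟨0, 0⟩, ⟨0, 0⟩, ⟨2, 2⟩⟩⟩, ⟨⟨⟨2, 3⟩, ⟨0, 0⟩, ⟨0, 0⟩⟩, ⟨⟨0, 0⟩, ⟨2, 2⟩, ⟨0, 0⟩⟩, ⟨⟨0, 0⟩, ⟨0, 0⟩, ⟨1, 0⟩⟩⟩, ⟨⟨⟨2, 3⟩, ⟨0, 0⟩, ⟨0, 0⟩⟩, ⟨⟨0, 0⟩, ⟨2, 3⟩, ⟨0, 0⟩⟩, ⟨⟨0, 0⟩, ⟨0, 0⟩, ⟨2, 3⟩⟩⟩]

def R0L : List M3 := M3.one :: R1L

def NL : List (M3 × ℕ × ℕ × ℕ × ℕ × ℕ) := [(⟨⟨⟨0, 0⟩, ⟨0, 0⟩, ⟨1, 0⟩⟩, ⟨⟨1, 0⟩, ⟨0, 0⟩, ⟨0, 0⟩⟩, ⟨⟨0, 0⟩, ⟨1, 0⟩, ⟨0, 0⟩⟩⟩, 0, 0, 1, 0, 0), (⟨⟨⟨0, 0⟩, ⟨0, 0⟩, ⟨1, 0⟩⟩, ⟨⟨2, 2⟩, ⟨0, 0⟩, ⟨0, 0⟩⟩, ⟨⟨0, 0⟩, ⟨2, 3⟩, ⟨0, 0⟩⟩⟩, 0, 1, 1, 0, 0),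 (⟨⟨⟨0, 0⟩, ⟨0, 0⟩, ⟨1, 0⟩⟩, ⟨⟨2, 3⟩, ⟨0, 0⟩, ⟨0, 0⟩⟩, ⟨⟨0, 0⟩, ⟨2, 2⟩, ⟨0, 0⟩⟩⟩, 0, 2, 1, 0, 0), (⟨⟨⟨0, 0⟩, ⟨0, 0⟩, ⟨4, 0⟩⟩, ⟨⟨0, 0⟩, ⟨4, 0⟩, ⟨0, 0⟩⟩, ⟨⟨4, 0⟩, ⟨0, 0⟩, ⟨0, 0⟩⟩⟩, 0, 0, 1, 2, 0), (⟨⟨⟨0, 0⟩, ⟨0, 0⟩, ⟨4, 0⟩⟩, ⟨⟨0, 0⟩, ⟨3, 2⟩, ⟨0, 0⟩⟩, ⟨⟨3, 3⟩, ⟨0, 0⟩, ⟨0, 0⟩⟩⟩, 0, 2, 1, 2, 0), (⟨⟨⟨0, 0⟩, ⟨0, 0⟩, ⟨4, 0⟩⟩, ⟨⟨0, 0⟩, ⟨3, 3⟩, ⟨0, 0⟩⟩, ⟨⟨3, 2⟩, ⟨0, 0⟩, ⟨0, 0⟩⟩⟩, 0, 1, 1, 2, 0), (⟨⟨⟨0, 0⟩, ⟨0, 0⟩, ⟨2, 2⟩⟩, ⟨⟨1, 0⟩, ⟨0, 0⟩, ⟨0, 0⟩⟩, ⟨⟨0, 0⟩, ⟨2, 3⟩, ⟨0, 0⟩⟩⟩, 1, 2,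 1, 0, 0), (⟨⟨⟨0, 0⟩, ⟨0, 0⟩, ⟨2, 2⟩⟩, ⟨⟨2, 2⟩, ⟨0, 0⟩, ⟨0, 0⟩⟩, ⟨⟨0, 0⟩, ⟨2, 2⟩, ⟨0, 0⟩⟩⟩, 1, 0, 1, 0, 0), (⟨⟨⟨0, 0⟩, ⟨0, 0⟩, ⟨2, 2⟩⟩, ⟨⟨2, 3⟩, ⟨0, 0⟩, ⟨0, 0⟩⟩, ⟨⟨0, 0⟩, ⟨1, 0⟩, ⟨0, 0⟩⟩⟩, 1, 1, 1, 0, 0), (⟨⟨⟨0, 0⟩, ⟨0, 0⟩, ⟨3, 2⟩⟩, ⟨⟨0, 0⟩, ⟨4, 0⟩, ⟨0, 0⟩⟩, ⟨⟨3, 3⟩, ⟨0, 0⟩, ⟨0, 0⟩⟩⟩, 2, 1, 1, 2, 0), (⟨⟨⟨0, 0⟩, ⟨0, 0⟩, ⟨3, 2⟩⟩, ⟨⟨0, 0⟩, ⟨3, 2⟩, ⟨0, 0⟩⟩, ⟨⟨3, 2⟩, ⟨0, 0⟩, ⟨0, 0⟩⟩⟩, 2, 0, 1, 2, 0), (⟨⟨⟨0, 0⟩, ⟨0, 0⟩, ⟨3, 2⟩⟩, ⟨⟨0, 0⟩, ⟨3, 3⟩, ⟨0, 0⟩⟩, ⟨⟨4, 0⟩, ⟨0, 0⟩, ⟨0,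 0⟩⟩⟩, 2, 2, 1, 2, 0), (⟨⟨⟨0, 0⟩, ⟨0, 0⟩, ⟨2, 3⟩⟩, ⟨⟨1, 0⟩, ⟨0, 0⟩, ⟨0, 0⟩⟩, ⟨⟨0, 0⟩, ⟨2, 2⟩, ⟨0, 0⟩⟩⟩, 2, 1, 1, 0, 0), (⟨⟨⟨0, 0⟩, ⟨0, 0⟩, ⟨2, 3⟩⟩, ⟨⟨2, 2⟩, ⟨0, 0⟩, ⟨0, 0⟩⟩, ⟨⟨0, 0⟩, ⟨1, 0⟩, ⟨0, 0⟩⟩⟩, 2, 2, 1, 0, 0), (⟨⟨⟨0, 0⟩, ⟨0, 0⟩, ⟨2, 3⟩⟩, ⟨⟨2, 3⟩, ⟨0, 0⟩, ⟨0, 0⟩⟩, ⟨⟨0, 0⟩, ⟨2, 3⟩, ⟨0, 0⟩⟩⟩, 2, 0, 1, 0, 0), (⟨⟨⟨0, 0⟩, ⟨0, 0⟩, ⟨3, 3⟩⟩, ⟨⟨0, 0⟩, ⟨4, 0⟩, ⟨0, 0⟩⟩, ⟨⟨3, 2⟩, ⟨0, 0⟩, ⟨0, 0⟩⟩⟩, 1, 2, 1, 2, 0), (⟨⟨⟨0, 0⟩, ⟨0, 0⟩, ⟨3, 3⟩⟩, ⟨⟨0, 0⟩, ⟨3, 2⟩, ⟨0, 0⟩⟩, ⟨⟨4, 0⟩,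 ⟨0, 0⟩, ⟨0, 0⟩⟩⟩, 1, 1, 1, 2, 0), (⟨⟨⟨0, 0⟩, ⟨0, 0⟩, ⟨3, 3⟩⟩, ⟨⟨0, 0⟩, ⟨3, 3⟩, ⟨0, 0⟩⟩, ⟨⟨3, 3⟩, ⟨0, 0⟩, ⟨0, 0⟩⟩⟩, 1, 0, 1, 2, 0), (⟨⟨⟨0, 0⟩, ⟨1, 0⟩, ⟨0, 0⟩⟩, ⟨⟨0, 0⟩, ⟨0, 0⟩, ⟨1, 0⟩⟩, ⟨⟨1, 0⟩, ⟨0, 0⟩, ⟨0, 0⟩⟩⟩, 0, 0, 2, 0, 0), (⟨⟨⟨0, 0⟩, ⟨1, 0⟩, ⟨0, 0⟩⟩, ⟨⟨0, 0⟩, ⟨0, 0⟩, ⟨2, 2⟩⟩, ⟨⟨2, 3⟩, ⟨0, 0⟩, ⟨0, 0⟩⟩⟩, 0, 1, 2, 0, 0), (⟨⟨⟨0, 0⟩, ⟨1, 0⟩, ⟨0, 0⟩⟩, ⟨⟨0, 0⟩, ⟨0, 0⟩, ⟨2, 3⟩⟩, ⟨⟨2, 2⟩, ⟨0, 0⟩, ⟨0, 0⟩⟩⟩, 0, 2, 2, 0, 0), (⟨⟨⟨0, 0⟩, ⟨4, 0⟩, ⟨0, 0⟩⟩, ⟨⟨4, 0⟩, ⟨0, 0⟩, ⟨0, 0⟩⟩,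 ⟨⟨0, 0⟩, ⟨0, 0⟩, ⟨4, 0⟩⟩⟩, 0, 0, 0, 2, 0), (⟨⟨⟨0, 0⟩, ⟨4, 0⟩, ⟨0, 0⟩⟩, ⟨⟨3, 2⟩, ⟨0, 0⟩, ⟨0, 0⟩⟩, ⟨⟨0, 0⟩, ⟨0, 0⟩, ⟨3, 3⟩⟩⟩, 0, 2, 0, 2, 0), (⟨⟨⟨0, 0⟩, ⟨4, 0⟩, ⟨0, 0⟩⟩, ⟨⟨3, 3⟩, ⟨0, 0⟩, ⟨0, 0⟩⟩, ⟨⟨0, 0⟩, ⟨0, 0⟩, ⟨3, 2⟩⟩⟩, 0, 1, 0, 2, 0), (⟨⟨⟨0, 0⟩, ⟨2, 2⟩, ⟨0, 0⟩⟩, ⟨⟨0, 0⟩, ⟨0, 0⟩, ⟨1, 0⟩⟩, ⟨⟨2, 3⟩, ⟨0, 0⟩, ⟨0, 0⟩⟩⟩, 1, 2, 2, 0, 0), (⟨⟨⟨0, 0⟩, ⟨2, 2⟩, ⟨0, 0⟩⟩, ⟨⟨0, 0⟩, ⟨0, 0⟩, ⟨2, 2⟩⟩, ⟨⟨2, 2⟩, ⟨0, 0⟩, ⟨0, 0⟩⟩⟩, 1, 0, 2, 0, 0), (⟨⟨⟨0, 0⟩, ⟨2, 2⟩, ⟨0, 0⟩⟩, ⟨⟨0, 0⟩, ⟨0, 0⟩,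 ⟨2, 3⟩⟩, ⟨⟨1, 0⟩, ⟨0, 0⟩, ⟨0, 0⟩⟩⟩, 1, 1, 2, 0, 0), (⟨⟨⟨0, 0⟩, ⟨3, 2⟩, ⟨0, 0⟩⟩, ⟨⟨4, 0⟩, ⟨0, 0⟩, ⟨0, 0⟩⟩, ⟨⟨0, 0⟩, ⟨0, 0⟩, ⟨3, 3⟩⟩⟩, 2, 1, 0, 2, 0), (⟨⟨⟨0, 0⟩, ⟨3, 2⟩, ⟨0, 0⟩⟩, ⟨⟨3, 2⟩, ⟨0, 0⟩, ⟨0, 0⟩⟩, ⟨⟨0, 0⟩, ⟨0, 0⟩, ⟨3, 2⟩⟩⟩, 2, 0, 0, 2, 0), (⟨⟨⟨0, 0⟩, ⟨3, 2⟩, ⟨0, 0⟩⟩, ⟨⟨3, 3⟩, ⟨0, 0⟩, ⟨0, 0⟩⟩, ⟨⟨0, 0⟩, ⟨0, 0⟩, ⟨4, 0⟩⟩⟩, 2, 2, 0, 2, 0), (⟨⟨⟨0, 0⟩, ⟨2, 3⟩, ⟨0, 0⟩⟩, ⟨⟨0, 0⟩, ⟨0, 0⟩, ⟨1, 0⟩⟩, ⟨⟨2, 2⟩, ⟨0, 0⟩, ⟨0, 0⟩⟩⟩, 2, 1, 2, 0, 0), (⟨⟨⟨0, 0⟩, ⟨2, 3⟩, ⟨0, 0⟩⟩, ⟨⟨0,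 0⟩, ⟨0, 0⟩, ⟨2, 2⟩⟩, ⟨⟨1, 0⟩, ⟨0, 0⟩, ⟨0, 0⟩⟩⟩, 2, 2, 2, 0, 0), (⟨⟨⟨0, 0⟩, ⟨2, 3⟩, ⟨0, 0⟩⟩, ⟨⟨0, 0⟩, ⟨0, 0⟩, ⟨2, 3⟩⟩, ⟨⟨2, 3⟩, ⟨0, 0⟩, ⟨0, 0⟩⟩⟩, 2, 0, 2, 0, 0), (⟨⟨⟨0, 0⟩, ⟨3, 3⟩, ⟨0, 0⟩⟩, ⟨⟨4, 0⟩, ⟨0, 0⟩, ⟨0, 0⟩⟩, ⟨⟨0, 0⟩, ⟨0, 0⟩, ⟨3, 2⟩⟩⟩, 1, 2, 0, 2, 0), (⟨⟨⟨0, 0⟩, ⟨3, 3⟩, ⟨0, 0⟩⟩, ⟨⟨3, 2⟩, ⟨0, 0⟩, ⟨0, 0⟩⟩, ⟨⟨0, 0⟩, ⟨0, 0⟩, ⟨4, 0⟩⟩⟩, 1, 1, 0, 2, 0), (⟨⟨⟨0, 0⟩, ⟨3, 3⟩, ⟨0, 0⟩⟩, ⟨⟨3, 3⟩, ⟨0, 0⟩, ⟨0, 0⟩⟩, ⟨⟨0, 0⟩, ⟨0, 0⟩, ⟨3, 3⟩⟩⟩, 1, 0, 0, 2, 0), (⟨⟨⟨1, 0⟩, ⟨0, 0⟩, ⟨0,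 0⟩⟩, ⟨⟨0, 0⟩, ⟨1, 0⟩, ⟨0, 0⟩⟩, ⟨⟨0, 0⟩, ⟨0, 0⟩, ⟨1, 0⟩⟩⟩, 0, 0, 0, 0, 0), (⟨⟨⟨1, 0⟩, ⟨0, 0⟩, ⟨0, 0⟩⟩, ⟨⟨0, 0⟩, ⟨2, 2⟩, ⟨0, 0⟩⟩, ⟨⟨0, 0⟩, ⟨0, 0⟩, ⟨2, 3⟩⟩⟩, 0, 1, 0, 0, 0), (⟨⟨⟨1, 0⟩, ⟨0, 0⟩, ⟨0, 0⟩⟩, ⟨⟨0, 0⟩, ⟨2, 3⟩, ⟨0, 0⟩⟩, ⟨⟨0, 0⟩, ⟨0, 0⟩, ⟨2, 2⟩⟩⟩, 0, 2, 0, 0, 0), (⟨⟨⟨4, 0⟩, ⟨0, 0⟩, ⟨0, 0⟩⟩, ⟨⟨0, 0⟩, ⟨0, 0⟩, ⟨4, 0⟩⟩, ⟨⟨0, 0⟩, ⟨4, 0⟩, ⟨0, 0⟩⟩⟩, 0, 0, 2, 2, 0), (⟨⟨⟨4, 0⟩, ⟨0, 0⟩, ⟨0, 0⟩⟩, ⟨⟨0, 0⟩, ⟨0, 0⟩, ⟨3, 2⟩⟩, ⟨⟨0, 0⟩, ⟨3, 3⟩, ⟨0, 0⟩⟩⟩, 0, 2, 2, 2, 0), (⟨⟨⟨4, 0⟩,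 ⟨0, 0⟩, ⟨0, 0⟩⟩, ⟨⟨0, 0⟩, ⟨0, 0⟩, ⟨3, 3⟩⟩, ⟨⟨0, 0⟩, ⟨3, 2⟩, ⟨0, 0⟩⟩⟩, 0, 1, 2, 2, 0), (⟨⟨⟨2, 1⟩, ⟨2, 1⟩, ⟨2, 1⟩⟩, ⟨⟨2, 1⟩, ⟨0, 3⟩, ⟨3, 1⟩⟩, ⟨⟨2, 1⟩, ⟨3, 1⟩, ⟨0, 3⟩⟩⟩, 1, 1, 1, 1, 1), (⟨⟨⟨2, 1⟩, ⟨2, 1⟩, ⟨2, 1⟩⟩, ⟨⟨3, 1⟩, ⟨2, 1⟩, ⟨0, 3⟩⟩, ⟨⟨0, 3⟩, ⟨2, 1⟩, ⟨3, 1⟩⟩⟩, 1, 2, 1, 1, 1), (⟨⟨⟨2, 1⟩, ⟨2, 1⟩, ⟨2, 1⟩⟩, ⟨⟨0, 3⟩, ⟨3, 1⟩, ⟨2, 1⟩⟩, ⟨⟨3, 1⟩, ⟨0, 3⟩, ⟨2, 1⟩⟩⟩, 1, 0, 1, 1, 1), (⟨⟨⟨2, 1⟩, ⟨2, 1⟩, ⟨3, 1⟩⟩, ⟨⟨2, 1⟩, ⟨0, 3⟩, ⟨0, 3⟩⟩, ⟨⟨0, 3⟩, ⟨2, 1⟩, ⟨0, 3⟩⟩⟩, 2, 0, 1, 0, 1),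 (⟨⟨⟨2, 1⟩, ⟨2, 1⟩, ⟨3, 1⟩⟩, ⟨⟨3, 1⟩, ⟨2, 1⟩, ⟨2, 1⟩⟩, ⟨⟨3, 1⟩, ⟨0, 3⟩, ⟨3, 1⟩⟩⟩, 2, 1, 1, 0, 1), (⟨⟨⟨2, 1⟩, ⟨2, 1⟩, ⟨3, 1⟩⟩, ⟨⟨0, 3⟩, ⟨3, 1⟩, ⟨3, 1⟩⟩, ⟨⟨2, 1⟩, ⟨3, 1⟩, ⟨2, 1⟩⟩⟩, 2, 2, 1, 0, 1), (⟨⟨⟨2, 1⟩, ⟨2, 1⟩, ⟨0, 3⟩⟩, ⟨⟨2, 1⟩, ⟨0, 3⟩, ⟨2, 1⟩⟩, ⟨⟨3, 1⟩, ⟨0, 3⟩, ⟨0, 3⟩⟩⟩, 0, 2, 1, 1, 0), (⟨⟨⟨2, 1⟩, ⟨2, 1⟩, ⟨0, 3⟩⟩, ⟨⟨3, 1⟩, ⟨2, 1⟩, ⟨3, 1⟩⟩, ⟨⟨2, 1⟩, ⟨3, 1⟩, ⟨3, 1⟩⟩⟩, 0, 0, 1, 1, 0), (⟨⟨⟨2, 1⟩, ⟨2, 1⟩, ⟨0, 3⟩⟩, ⟨⟨0, 3⟩, ⟨3, 1⟩, ⟨0, 3⟩⟩, ⟨⟨0, 3⟩, ⟨2, 1⟩, ⟨2, 1⟩⟩⟩, 0, 1,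 1, 1, 0), (⟨⟨⟨2, 1⟩, ⟨3, 1⟩, ⟨2, 1⟩⟩, ⟨⟨2, 1⟩, ⟨2, 1⟩, ⟨3, 1⟩⟩, ⟨⟨0, 3⟩, ⟨3, 1⟩, ⟨3, 1⟩⟩⟩, 0, 2, 2, 0, 1), (⟨⟨⟨2, 1⟩, ⟨3, 1⟩, ⟨2, 1⟩⟩, ⟨⟨3, 1⟩, ⟨3, 1⟩, ⟨0, 3⟩⟩, ⟨⟨3, 1⟩, ⟨2, 1⟩, ⟨2, 1⟩⟩⟩, 0, 0, 2, 0, 1), (⟨⟨⟨2, 1⟩, ⟨3, 1⟩, ⟨2, 1⟩⟩, ⟨⟨0, 3⟩, ⟨0, 3⟩, ⟨2, 1⟩⟩, ⟨⟨2, 1⟩, ⟨0, 3⟩, ⟨0, 3⟩⟩⟩, 0, 1, 2, 0, 1), (⟨⟨⟨2, 1⟩, ⟨3, 1⟩, ⟨3, 1⟩⟩, ⟨⟨2, 1⟩, ⟨2, 1⟩, ⟨0, 3⟩⟩, ⟨⟨3, 1⟩, ⟨2, 1⟩, ⟨3, 1⟩⟩⟩, 0, 0, 2, 1, 0), (⟨⟨⟨2, 1⟩, ⟨3, 1⟩, ⟨3, 1⟩⟩, ⟨⟨3, 1⟩, ⟨3, 1⟩, ⟨2, 1⟩⟩, ⟨⟨2, 1⟩, ⟨0, 3⟩, ⟨2,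 1⟩⟩⟩, 0, 1, 2, 1, 0), (⟨⟨⟨2, 1⟩, ⟨3, 1⟩, ⟨3, 1⟩⟩, ⟨⟨0, 3⟩, ⟨0, 3⟩, ⟨3, 1⟩⟩, ⟨⟨0, 3⟩, ⟨3, 1⟩, ⟨0, 3⟩⟩⟩, 0, 2, 2, 1, 0), (⟨⟨⟨2, 1⟩, ⟨3, 1⟩, ⟨0, 3⟩⟩, ⟨⟨2, 1⟩, ⟨2, 1⟩, ⟨2, 1⟩⟩, ⟨⟨2, 1⟩, ⟨0, 3⟩, ⟨3, 1⟩⟩⟩, 0, 1, 2, 1, 1), (⟨⟨⟨2, 1⟩, ⟨3, 1⟩, ⟨0, 3⟩⟩, ⟨⟨3, 1⟩, ⟨3, 1⟩, ⟨3, 1⟩⟩, ⟨⟨0, 3⟩, ⟨3, 1⟩, ⟨2, 1⟩⟩⟩, 0, 2, 2, 1, 1), (⟨⟨⟨2, 1⟩, ⟨3, 1⟩, ⟨0, 3⟩⟩, ⟨⟨0, 3⟩, ⟨0, 3⟩, ⟨0, 3⟩⟩, ⟨⟨3, 1⟩, ⟨2, 1⟩, ⟨0, 3⟩⟩⟩, 0, 0, 2, 1, 1), (⟨⟨⟨2, 1⟩, ⟨0, 3⟩, ⟨2, 1⟩⟩, ⟨⟨2, 1⟩, ⟨3, 1⟩, ⟨3, 1⟩⟩, ⟨⟨3, 1⟩,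 ⟨3, 1⟩, ⟨2, 1⟩⟩⟩, 2, 1, 0, 1, 0), (⟨⟨⟨2, 1⟩, ⟨0, 3⟩, ⟨2, 1⟩⟩, ⟨⟨3, 1⟩, ⟨0, 3⟩, ⟨0, 3⟩⟩, ⟨⟨2, 1⟩, ⟨2, 1⟩, ⟨0, 3⟩⟩⟩, 2, 2, 0, 1, 0), (⟨⟨⟨2, 1⟩, ⟨0, 3⟩, ⟨2, 1⟩⟩, ⟨⟨0, 3⟩, ⟨2, 1⟩, ⟨2, 1⟩⟩, ⟨⟨0, 3⟩, ⟨0, 3⟩, ⟨3, 1⟩⟩⟩, 2, 0, 0, 1, 0), (⟨⟨⟨2, 1⟩, ⟨0, 3⟩, ⟨3, 1⟩⟩, ⟨⟨2, 1⟩, ⟨3, 1⟩, ⟨0, 3⟩⟩, ⟨⟨2, 1⟩, ⟨2, 1⟩, ⟨2, 1⟩⟩⟩, 2, 1, 0, 1, 1), (⟨⟨⟨2, 1⟩, ⟨0, 3⟩, ⟨3, 1⟩⟩, ⟨⟨3, 1⟩, ⟨0, 3⟩, ⟨2, 1⟩⟩, ⟨⟨0, 3⟩, ⟨0, 3⟩, ⟨0, 3⟩⟩⟩, 2, 2, 0, 1, 1), (⟨⟨⟨2, 1⟩, ⟨0, 3⟩, ⟨3, 1⟩⟩, ⟨⟨0, 3⟩, ⟨2, 1⟩, ⟨3, 1⟩⟩,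 ⟨⟨3, 1⟩, ⟨3, 1⟩, ⟨3, 1⟩⟩⟩, 2, 0, 0, 1, 1), (⟨⟨⟨2, 1⟩, ⟨0, 3⟩, ⟨0, 3⟩⟩, ⟨⟨2, 1⟩, ⟨3, 1⟩, ⟨2, 1⟩⟩, ⟨⟨0, 3⟩, ⟨0, 3⟩, ⟨2, 1⟩⟩⟩, 2, 1, 0, 0, 1), (⟨⟨⟨2, 1⟩, ⟨0, 3⟩, ⟨0, 3⟩⟩, ⟨⟨3, 1⟩, ⟨0, 3⟩, ⟨3, 1⟩⟩, ⟨⟨3, 1⟩, ⟨3, 1⟩, ⟨0, 3⟩⟩⟩, 2, 2, 0, 0, 1), (⟨⟨⟨2, 1⟩, ⟨0, 3⟩, ⟨0, 3⟩⟩, ⟨⟨0, 3⟩, ⟨2, 1⟩, ⟨0, 3⟩⟩, ⟨⟨2, 1⟩, ⟨2, 1⟩, ⟨3, 1⟩⟩⟩, 2, 0, 0, 0, 1), (⟨⟨⟨3, 1⟩, ⟨2, 1⟩, ⟨2, 1⟩⟩, ⟨⟨2, 1⟩, ⟨3, 1⟩, ⟨2, 1⟩⟩, ⟨⟨3, 1⟩, ⟨3, 1⟩, ⟨0, 3⟩⟩⟩, 0, 0, 0, 0, 1), (⟨⟨⟨3, 1⟩, ⟨2, 1⟩, ⟨2, 1⟩⟩, ⟨⟨3, 1⟩, ⟨0, 3⟩,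 ⟨3, 1⟩⟩, ⟨⟨2, 1⟩, ⟨2, 1⟩, ⟨3, 1⟩⟩⟩, 0, 1, 0, 0, 1), (⟨⟨⟨3, 1⟩, ⟨2, 1⟩, ⟨2, 1⟩⟩, ⟨⟨0, 3⟩, ⟨2, 1⟩, ⟨0, 3⟩⟩, ⟨⟨0, 3⟩, ⟨0, 3⟩, ⟨2, 1⟩⟩⟩, 0, 2, 0, 0, 1), (⟨⟨⟨3, 1⟩, ⟨2, 1⟩, ⟨3, 1⟩⟩, ⟨⟨2, 1⟩, ⟨3, 1⟩, ⟨3, 1⟩⟩, ⟨⟨2, 1⟩, ⟨2, 1⟩, ⟨0, 3⟩⟩⟩, 0, 0, 0, 1, 0), (⟨⟨⟨3, 1⟩, ⟨2, 1⟩, ⟨3, 1⟩⟩, ⟨⟨3, 1⟩, ⟨0, 3⟩, ⟨0, 3⟩⟩, ⟨⟨0, 3⟩, ⟨0, 3⟩, ⟨3, 1⟩⟩⟩, 0, 1, 0, 1, 0), (⟨⟨⟨3, 1⟩, ⟨2, 1⟩, ⟨3, 1⟩⟩, ⟨⟨0, 3⟩, ⟨2, 1⟩, ⟨2, 1⟩⟩, ⟨⟨3, 1⟩, ⟨3, 1⟩, ⟨2, 1⟩⟩⟩, 0, 2, 0, 1, 0), (⟨⟨⟨3, 1⟩, ⟨2, 1⟩, ⟨0, 3⟩⟩, ⟨⟨2,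 1⟩, ⟨3, 1⟩, ⟨0, 3⟩⟩, ⟨⟨0, 3⟩, ⟨0, 3⟩, ⟨0, 3⟩⟩⟩, 0, 0, 0, 1, 1), (⟨⟨⟨3, 1⟩, ⟨2, 1⟩, ⟨0, 3⟩⟩, ⟨⟨3, 1⟩, ⟨0, 3⟩, ⟨2, 1⟩⟩, ⟨⟨3, 1⟩, ⟨3, 1⟩, ⟨3, 1⟩⟩⟩, 0, 1, 0, 1, 1), (⟨⟨⟨3, 1⟩, ⟨2, 1⟩, ⟨0, 3⟩⟩, ⟨⟨0, 3⟩, ⟨2, 1⟩, ⟨3, 1⟩⟩, ⟨⟨2, 1⟩, ⟨2, 1⟩, ⟨2, 1⟩⟩⟩, 0, 2, 0, 1, 1), (⟨⟨⟨3, 1⟩, ⟨3, 1⟩, ⟨2, 1⟩⟩, ⟨⟨2, 1⟩, ⟨0, 3⟩, ⟨2, 1⟩⟩, ⟨⟨2, 1⟩, ⟨3, 1⟩, ⟨3, 1⟩⟩⟩, 1, 1, 1, 1, 0), (⟨⟨⟨3, 1⟩, ⟨3, 1⟩, ⟨2, 1⟩⟩, ⟨⟨3, 1⟩, ⟨2, 1⟩, ⟨3, 1⟩⟩, ⟨⟨0, 3⟩, ⟨2, 1⟩, ⟨2, 1⟩⟩⟩, 1, 2, 1, 1, 0), (⟨⟨⟨3, 1⟩, ⟨3, 1⟩, ⟨2,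 1⟩⟩, ⟨⟨0, 3⟩, ⟨3, 1⟩, ⟨0, 3⟩⟩, ⟨⟨3, 1⟩, ⟨0, 3⟩, ⟨0, 3⟩⟩⟩, 1, 0, 1, 1, 0), (⟨⟨⟨3, 1⟩, ⟨3, 1⟩, ⟨3, 1⟩⟩, ⟨⟨2, 1⟩, ⟨0, 3⟩, ⟨3, 1⟩⟩, ⟨⟨0, 3⟩, ⟨2, 1⟩, ⟨3, 1⟩⟩⟩, 2, 0, 1, 1, 1), (⟨⟨⟨3, 1⟩, ⟨3, 1⟩, ⟨3, 1⟩⟩, ⟨⟨3, 1⟩, ⟨2, 1⟩, ⟨0, 3⟩⟩, ⟨⟨3, 1⟩, ⟨0, 3⟩, ⟨2, 1⟩⟩⟩, 2, 1, 1, 1, 1), (⟨⟨⟨3, 1⟩, ⟨3, 1⟩, ⟨3, 1⟩⟩, ⟨⟨0, 3⟩, ⟨3, 1⟩, ⟨2, 1⟩⟩, ⟨⟨2, 1⟩, ⟨3, 1⟩, ⟨0, 3⟩⟩⟩, 2, 2, 1, 1, 1), (⟨⟨⟨3, 1⟩, ⟨3, 1⟩, ⟨0, 3⟩⟩, ⟨⟨2, 1⟩, ⟨0, 3⟩, ⟨0, 3⟩⟩, ⟨⟨3, 1⟩, ⟨0, 3⟩, ⟨3, 1⟩⟩⟩, 0, 2, 1, 0, 1), (⟨⟨⟨3, 1⟩,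 ⟨3, 1⟩, ⟨0, 3⟩⟩, ⟨⟨3, 1⟩, ⟨2, 1⟩, ⟨2, 1⟩⟩, ⟨⟨2, 1⟩, ⟨3, 1⟩, ⟨2, 1⟩⟩⟩, 0, 0, 1, 0, 1), (⟨⟨⟨3, 1⟩, ⟨3, 1⟩, ⟨0, 3⟩⟩, ⟨⟨0, 3⟩, ⟨3, 1⟩, ⟨3, 1⟩⟩, ⟨⟨0, 3⟩, ⟨2, 1⟩, ⟨0, 3⟩⟩⟩, 0, 1, 1, 0, 1), (⟨⟨⟨3, 1⟩, ⟨0, 3⟩, ⟨2, 1⟩⟩, ⟨⟨2, 1⟩, ⟨2, 1⟩, ⟨2, 1⟩⟩, ⟨⟨0, 3⟩, ⟨3, 1⟩, ⟨2, 1⟩⟩⟩, 1, 0, 2, 1, 1), (⟨⟨⟨3, 1⟩, ⟨0, 3⟩, ⟨2, 1⟩⟩, ⟨⟨3, 1⟩, ⟨3, 1⟩, ⟨3, 1⟩⟩, ⟨⟨3, 1⟩, ⟨2, 1⟩, ⟨0, 3⟩⟩⟩, 1, 1, 2, 1, 1), (⟨⟨⟨3, 1⟩, ⟨0, 3⟩, ⟨2, 1⟩⟩, ⟨⟨0, 3⟩, ⟨0, 3⟩, ⟨0, 3⟩⟩, ⟨⟨2, 1⟩, ⟨0, 3⟩, ⟨3, 1⟩⟩⟩, 1, 2, 2, 1, 1),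 (⟨⟨⟨3, 1⟩, ⟨0, 3⟩, ⟨3, 1⟩⟩, ⟨⟨2, 1⟩, ⟨2, 1⟩, ⟨3, 1⟩⟩, ⟨⟨3, 1⟩, ⟨2, 1⟩, ⟨2, 1⟩⟩⟩, 1, 1, 2, 0, 1), (⟨⟨⟨3, 1⟩, ⟨0, 3⟩, ⟨3, 1⟩⟩, ⟨⟨3, 1⟩, ⟨3, 1⟩, ⟨0, 3⟩⟩, ⟨⟨2, 1⟩, ⟨0, 3⟩, ⟨0, 3⟩⟩⟩, 1, 2, 2, 0, 1), (⟨⟨⟨3, 1⟩, ⟨0, 3⟩, ⟨3, 1⟩⟩, ⟨⟨0, 3⟩, ⟨0, 3⟩, ⟨2, 1⟩⟩, ⟨⟨0, 3⟩, ⟨3, 1⟩, ⟨3, 1⟩⟩⟩, 1, 0, 2, 0, 1), (⟨⟨⟨3, 1⟩, ⟨0, 3⟩, ⟨0, 3⟩⟩, ⟨⟨2, 1⟩, ⟨2, 1⟩, ⟨0, 3⟩⟩, ⟨⟨2, 1⟩, ⟨0, 3⟩, ⟨2, 1⟩⟩⟩, 1, 2, 2, 1, 0), (⟨⟨⟨3, 1⟩, ⟨0, 3⟩, ⟨0, 3⟩⟩, ⟨⟨3, 1⟩, ⟨3, 1⟩, ⟨2, 1⟩⟩, ⟨⟨0, 3⟩, ⟨3, 1⟩, ⟨0, 3⟩⟩⟩, 1, 0,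 2, 1, 0), (⟨⟨⟨3, 1⟩, ⟨0, 3⟩, ⟨0, 3⟩⟩, ⟨⟨0, 3⟩, ⟨0, 3⟩, ⟨3, 1⟩⟩, ⟨⟨3, 1⟩, ⟨2, 1⟩, ⟨3, 1⟩⟩⟩, 1, 1, 2, 1, 0), (⟨⟨⟨0, 2⟩, ⟨0, 2⟩, ⟨0, 2⟩⟩, ⟨⟨0, 2⟩, ⟨3, 4⟩, ⟨2, 4⟩⟩, ⟨⟨0, 2⟩, ⟨2, 4⟩, ⟨3, 4⟩⟩⟩, 0, 2, 1, 3, 1), (⟨⟨⟨0, 2⟩, ⟨0, 2⟩, ⟨0, 2⟩⟩, ⟨⟨2, 4⟩, ⟨0, 2⟩, ⟨3, 4⟩⟩, ⟨⟨3, 4⟩, ⟨0, 2⟩, ⟨2, 4⟩⟩⟩, 0, 1, 1, 3, 1), (⟨⟨⟨0, 2⟩, ⟨0, 2⟩, ⟨0, 2⟩⟩, ⟨⟨3, 4⟩, ⟨2, 4⟩, ⟨0, 2⟩⟩, ⟨⟨2, 4⟩, ⟨3, 4⟩, ⟨0, 2⟩⟩⟩, 0, 0, 1, 3, 1), (⟨⟨⟨0, 2⟩, ⟨0, 2⟩, ⟨2, 4⟩⟩, ⟨⟨0, 2⟩, ⟨3, 4⟩, ⟨3, 4⟩⟩, ⟨⟨3, 4⟩, ⟨0, 2⟩, ⟨3,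 4⟩⟩⟩, 2, 0, 1, 3, 0), (⟨⟨⟨0, 2⟩, ⟨0, 2⟩, ⟨2, 4⟩⟩, ⟨⟨2, 4⟩, ⟨0, 2⟩, ⟨0, 2⟩⟩, ⟨⟨2, 4⟩, ⟨3, 4⟩, ⟨2, 4⟩⟩⟩, 2, 2, 1, 3, 0), (⟨⟨⟨0, 2⟩, ⟨0, 2⟩, ⟨2, 4⟩⟩, ⟨⟨3, 4⟩, ⟨2, 4⟩, ⟨2, 4⟩⟩, ⟨⟨0, 2⟩, ⟨2, 4⟩, ⟨0, 2⟩⟩⟩, 2, 1, 1, 3, 0), (⟨⟨⟨0, 2⟩, ⟨0, 2⟩, ⟨3, 4⟩⟩, ⟨⟨0, 2⟩, ⟨3, 4⟩, ⟨0, 2⟩⟩, ⟨⟨2, 4⟩, ⟨3, 4⟩, ⟨3, 4⟩⟩⟩, 1, 1, 1, 2, 1), (⟨⟨⟨0, 2⟩, ⟨0, 2⟩, ⟨3, 4⟩⟩, ⟨⟨2, 4⟩, ⟨0, 2⟩, ⟨2, 4⟩⟩, ⟨⟨0, 2⟩, ⟨2, 4⟩, ⟨2, 4⟩⟩⟩, 1, 0, 1, 2, 1), (⟨⟨⟨0, 2⟩, ⟨0, 2⟩, ⟨3, 4⟩⟩, ⟨⟨3, 4⟩, ⟨2, 4⟩, ⟨3, 4⟩⟩, ⟨⟨3, 4⟩,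 ⟨0, 2⟩, ⟨0, 2⟩⟩⟩, 1, 2, 1, 2, 1), (⟨⟨⟨0, 2⟩, ⟨2, 4⟩, ⟨0, 2⟩⟩, ⟨⟨0, 2⟩, ⟨0, 2⟩, ⟨2, 4⟩⟩, ⟨⟨3, 4⟩, ⟨2, 4⟩, ⟨2, 4⟩⟩⟩, 1, 1, 2, 3, 0), (⟨⟨⟨0, 2⟩, ⟨2, 4⟩, ⟨0, 2⟩⟩, ⟨⟨2, 4⟩, ⟨2, 4⟩, ⟨3, 4⟩⟩, ⟨⟨2, 4⟩, ⟨0, 2⟩, ⟨0, 2⟩⟩⟩, 1, 0, 2, 3, 0), (⟨⟨⟨0, 2⟩, ⟨2, 4⟩, ⟨0, 2⟩⟩, ⟨⟨3, 4⟩, ⟨3, 4⟩, ⟨0, 2⟩⟩, ⟨⟨0, 2⟩, ⟨3, 4⟩, ⟨3, 4⟩⟩⟩, 1, 2, 2, 3, 0), (⟨⟨⟨0, 2⟩, ⟨2, 4⟩, ⟨2, 4⟩⟩, ⟨⟨0, 2⟩, ⟨0, 2⟩, ⟨3, 4⟩⟩, ⟨⟨2, 4⟩, ⟨0, 2⟩, ⟨2, 4⟩⟩⟩, 1, 0, 2, 2, 1), (⟨⟨⟨0, 2⟩, ⟨2, 4⟩, ⟨2, 4⟩⟩, ⟨⟨2, 4⟩, ⟨2, 4⟩, ⟨0, 2⟩⟩,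 ⟨⟨0, 2⟩, ⟨3, 4⟩, ⟨0, 2⟩⟩⟩, 1, 2, 2, 2, 1), (⟨⟨⟨0, 2⟩, ⟨2, 4⟩, ⟨2, 4⟩⟩, ⟨⟨3, 4⟩, ⟨3, 4⟩, ⟨2, 4⟩⟩, ⟨⟨3, 4⟩, ⟨2, 4⟩, ⟨3, 4⟩⟩⟩, 1, 1, 2, 2, 1), (⟨⟨⟨0, 2⟩, ⟨2, 4⟩, ⟨3, 4⟩⟩, ⟨⟨0, 2⟩, ⟨0, 2⟩, ⟨0, 2⟩⟩, ⟨⟨0, 2⟩, ⟨3, 4⟩, ⟨2, 4⟩⟩⟩, 1, 2, 2, 3, 1), (⟨⟨⟨0, 2⟩, ⟨2, 4⟩, ⟨3, 4⟩⟩, ⟨⟨2, 4⟩, ⟨2, 4⟩, ⟨2, 4⟩⟩, ⟨⟨3, 4⟩, ⟨2, 4⟩, ⟨0, 2⟩⟩⟩, 1, 1, 2, 3, 1), (⟨⟨⟨0, 2⟩, ⟨2, 4⟩, ⟨3, 4⟩⟩, ⟨⟨3, 4⟩, ⟨3, 4⟩, ⟨3, 4⟩⟩, ⟨⟨2, 4⟩, ⟨0, 2⟩, ⟨3, 4⟩⟩⟩, 1, 0, 2, 3, 1), (⟨⟨⟨0, 2⟩, ⟨3, 4⟩, ⟨0, 2⟩⟩, ⟨⟨0, 2⟩, ⟨2, 4⟩,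 ⟨2, 4⟩⟩, ⟨⟨2, 4⟩, ⟨2, 4⟩, ⟨0, 2⟩⟩⟩, 2, 2, 0, 2, 1), (⟨⟨⟨0, 2⟩, ⟨3, 4⟩, ⟨0, 2⟩⟩, ⟨⟨2, 4⟩, ⟨3, 4⟩, ⟨3, 4⟩⟩, ⟨⟨0, 2⟩, ⟨0, 2⟩, ⟨3, 4⟩⟩⟩, 2, 1, 0, 2, 1), (⟨⟨⟨0, 2⟩, ⟨3, 4⟩, ⟨0, 2⟩⟩, ⟨⟨3, 4⟩, ⟨0, 2⟩, ⟨0, 2⟩⟩, ⟨⟨3, 4⟩, ⟨3, 4⟩, ⟨2, 4⟩⟩⟩, 2, 0, 0, 2, 1), (⟨⟨⟨0, 2⟩, ⟨3, 4⟩, ⟨2, 4⟩⟩, ⟨⟨0, 2⟩, ⟨2, 4⟩, ⟨3, 4⟩⟩, ⟨⟨0, 2⟩, ⟨0, 2⟩, ⟨0, 2⟩⟩⟩, 2, 2, 0, 3, 1), (⟨⟨⟨0, 2⟩, ⟨3, 4⟩, ⟨2, 4⟩⟩, ⟨⟨2, 4⟩, ⟨3, 4⟩, ⟨0, 2⟩⟩, ⟨⟨3, 4⟩, ⟨3, 4⟩, ⟨3, 4⟩⟩⟩, 2, 1, 0, 3, 1), (⟨⟨⟨0, 2⟩, ⟨3, 4⟩, ⟨2, 4⟩⟩, ⟨⟨3,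 4⟩, ⟨0, 2⟩, ⟨2, 4⟩⟩, ⟨⟨2, 4⟩, ⟨2, 4⟩, ⟨2, 4⟩⟩⟩, 2, 0, 0, 3, 1), (⟨⟨⟨0, 2⟩, ⟨3, 4⟩, ⟨3, 4⟩⟩, ⟨⟨0, 2⟩, ⟨2, 4⟩, ⟨0, 2⟩⟩, ⟨⟨3, 4⟩, ⟨3, 4⟩, ⟨0, 2⟩⟩⟩, 2, 2, 0, 3, 0), (⟨⟨⟨0, 2⟩, ⟨3, 4⟩, ⟨3, 4⟩⟩, ⟨⟨2, 4⟩, ⟨3, 4⟩, ⟨2, 4⟩⟩, ⟨⟨2, 4⟩, ⟨2, 4⟩, ⟨3, 4⟩⟩⟩, 2, 1, 0, 3, 0), (⟨⟨⟨0, 2⟩, ⟨3, 4⟩, ⟨3, 4⟩⟩, ⟨⟨3, 4⟩, ⟨0, 2⟩, ⟨3, 4⟩⟩, ⟨⟨0, 2⟩, ⟨0, 2⟩, ⟨2, 4⟩⟩⟩, 2, 0, 0, 3, 0), (⟨⟨⟨2, 2⟩, ⟨0, 0⟩, ⟨0, 0⟩⟩, ⟨⟨0, 0⟩, ⟨1, 0⟩, ⟨0, 0⟩⟩, ⟨⟨0, 0⟩, ⟨0, 0⟩, ⟨2, 3⟩⟩⟩, 1, 2, 0, 0, 0), (⟨⟨⟨2, 2⟩, ⟨0, 0⟩, ⟨0,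 0⟩⟩, ⟨⟨0, 0⟩, ⟨2, 2⟩, ⟨0, 0⟩⟩, ⟨⟨0, 0⟩, ⟨0, 0⟩, ⟨2, 2⟩⟩⟩, 1, 0, 0, 0, 0), (⟨⟨⟨2, 2⟩, ⟨0, 0⟩, ⟨0, 0⟩⟩, ⟨⟨0, 0⟩, ⟨2, 3⟩, ⟨0, 0⟩⟩, ⟨⟨0, 0⟩, ⟨0, 0⟩, ⟨1, 0⟩⟩⟩, 1, 1, 0, 0, 0), (⟨⟨⟨3, 2⟩, ⟨0, 0⟩, ⟨0, 0⟩⟩, ⟨⟨0, 0⟩, ⟨0, 0⟩, ⟨4, 0⟩⟩, ⟨⟨0, 0⟩, ⟨3, 3⟩, ⟨0, 0⟩⟩⟩, 2, 1, 2, 2, 0), (⟨⟨⟨3, 2⟩, ⟨0, 0⟩, ⟨0, 0⟩⟩, ⟨⟨0, 0⟩, ⟨0, 0⟩, ⟨3, 2⟩⟩, ⟨⟨0, 0⟩, ⟨3, 2⟩, ⟨0, 0⟩⟩⟩, 2, 0, 2, 2, 0), (⟨⟨⟨3, 2⟩, ⟨0, 0⟩, ⟨0, 0⟩⟩, ⟨⟨0, 0⟩, ⟨0, 0⟩, ⟨3, 3⟩⟩, ⟨⟨0, 0⟩, ⟨4, 0⟩, ⟨0, 0⟩⟩⟩, 2, 2, 2, 2, 0), (⟨⟨⟨0, 3⟩,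 ⟨2, 1⟩, ⟨2, 1⟩⟩, ⟨⟨2, 1⟩, ⟨2, 1⟩, ⟨0, 3⟩⟩, ⟨⟨0, 3⟩, ⟨3, 1⟩, ⟨0, 3⟩⟩⟩, 2, 1, 2, 1, 0), (⟨⟨⟨0, 3⟩, ⟨2, 1⟩, ⟨2, 1⟩⟩, ⟨⟨3, 1⟩, ⟨3, 1⟩, ⟨2, 1⟩⟩, ⟨⟨3, 1⟩, ⟨2, 1⟩, ⟨3, 1⟩⟩⟩, 2, 2, 2, 1, 0), (⟨⟨⟨0, 3⟩, ⟨2, 1⟩, ⟨2, 1⟩⟩, ⟨⟨0, 3⟩, ⟨0, 3⟩, ⟨3, 1⟩⟩, ⟨⟨2, 1⟩, ⟨0, 3⟩, ⟨2, 1⟩⟩⟩, 2, 0, 2, 1, 0), (⟨⟨⟨0, 3⟩, ⟨2, 1⟩, ⟨3, 1⟩⟩, ⟨⟨2, 1⟩, ⟨2, 1⟩, ⟨2, 1⟩⟩, ⟨⟨3, 1⟩, ⟨2, 1⟩, ⟨0, 3⟩⟩⟩, 2, 2, 2, 1, 1), (⟨⟨⟨0, 3⟩, ⟨2, 1⟩, ⟨3, 1⟩⟩, ⟨⟨3, 1⟩, ⟨3, 1⟩, ⟨3, 1⟩⟩, ⟨⟨2, 1⟩, ⟨0, 3⟩, ⟨3, 1⟩⟩⟩, 2, 0, 2, 1, 1),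 (⟨⟨⟨0, 3⟩, ⟨2, 1⟩, ⟨3, 1⟩⟩, ⟨⟨0, 3⟩, ⟨0, 3⟩, ⟨0, 3⟩⟩, ⟨⟨0, 3⟩, ⟨3, 1⟩, ⟨2, 1⟩⟩⟩, 2, 1, 2, 1, 1), (⟨⟨⟨0, 3⟩, ⟨2, 1⟩, ⟨0, 3⟩⟩, ⟨⟨2, 1⟩, ⟨2, 1⟩, ⟨3, 1⟩⟩, ⟨⟨2, 1⟩, ⟨0, 3⟩, ⟨0, 3⟩⟩⟩, 2, 0, 2, 0, 1), (⟨⟨⟨0, 3⟩, ⟨2, 1⟩, ⟨0, 3⟩⟩, ⟨⟨3, 1⟩, ⟨3, 1⟩, ⟨0, 3⟩⟩, ⟨⟨0, 3⟩, ⟨3, 1⟩, ⟨3, 1⟩⟩⟩, 2, 1, 2, 0, 1), (⟨⟨⟨0, 3⟩, ⟨2, 1⟩, ⟨0, 3⟩⟩, ⟨⟨0, 3⟩, ⟨0, 3⟩, ⟨2, 1⟩⟩, ⟨⟨3, 1⟩, ⟨2, 1⟩, ⟨2, 1⟩⟩⟩, 2, 2, 2, 0, 1), (⟨⟨⟨0, 3⟩, ⟨3, 1⟩, ⟨2, 1⟩⟩, ⟨⟨2, 1⟩, ⟨3, 1⟩, ⟨0, 3⟩⟩, ⟨⟨3, 1⟩, ⟨3, 1⟩, ⟨3, 1⟩⟩⟩, 1, 2,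 0, 1, 1), (⟨⟨⟨0, 3⟩, ⟨3, 1⟩, ⟨2, 1⟩⟩, ⟨⟨3, 1⟩, ⟨0, 3⟩, ⟨2, 1⟩⟩, ⟨⟨2, 1⟩, ⟨2, 1⟩, ⟨2, 1⟩⟩⟩, 1, 0, 0, 1, 1), (⟨⟨⟨0, 3⟩, ⟨3, 1⟩, ⟨2, 1⟩⟩, ⟨⟨0, 3⟩, ⟨2, 1⟩, ⟨3, 1⟩⟩, ⟨⟨0, 3⟩, ⟨0, 3⟩, ⟨0, 3⟩⟩⟩, 1, 1, 0, 1, 1), (⟨⟨⟨0, 3⟩, ⟨3, 1⟩, ⟨3, 1⟩⟩, ⟨⟨2, 1⟩, ⟨3, 1⟩, ⟨2, 1⟩⟩, ⟨⟨2, 1⟩, ⟨2, 1⟩, ⟨3, 1⟩⟩⟩, 1, 2, 0, 0, 1), (⟨⟨⟨0, 3⟩, ⟨3, 1⟩, ⟨3, 1⟩⟩, ⟨⟨3, 1⟩, ⟨0, 3⟩, ⟨3, 1⟩⟩, ⟨⟨0, 3⟩, ⟨0, 3⟩, ⟨2, 1⟩⟩⟩, 1, 0, 0, 0, 1), (⟨⟨⟨0, 3⟩, ⟨3, 1⟩, ⟨3, 1⟩⟩, ⟨⟨0, 3⟩, ⟨2, 1⟩, ⟨0, 3⟩⟩, ⟨⟨3, 1⟩, ⟨3, 1⟩, ⟨0,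 3⟩⟩⟩, 1, 1, 0, 0, 1), (⟨⟨⟨0, 3⟩, ⟨3, 1⟩, ⟨0, 3⟩⟩, ⟨⟨2, 1⟩, ⟨3, 1⟩, ⟨3, 1⟩⟩, ⟨⟨0, 3⟩, ⟨0, 3⟩, ⟨3, 1⟩⟩⟩, 1, 2, 0, 1, 0), (⟨⟨⟨0, 3⟩, ⟨3, 1⟩, ⟨0, 3⟩⟩, ⟨⟨3, 1⟩, ⟨0, 3⟩, ⟨0, 3⟩⟩, ⟨⟨3, 1⟩, ⟨3, 1⟩, ⟨2, 1⟩⟩⟩, 1, 0, 0, 1, 0), (⟨⟨⟨0, 3⟩, ⟨3, 1⟩, ⟨0, 3⟩⟩, ⟨⟨0, 3⟩, ⟨2, 1⟩, ⟨2, 1⟩⟩, ⟨⟨2, 1⟩, ⟨2, 1⟩, ⟨0, 3⟩⟩⟩, 1, 1, 0, 1, 0), (⟨⟨⟨0, 3⟩, ⟨0, 3⟩, ⟨2, 1⟩⟩, ⟨⟨2, 1⟩, ⟨0, 3⟩, ⟨0, 3⟩⟩, ⟨⟨2, 1⟩, ⟨3, 1⟩, ⟨2, 1⟩⟩⟩, 1, 1, 1, 0, 1), (⟨⟨⟨0, 3⟩, ⟨0, 3⟩, ⟨2, 1⟩⟩, ⟨⟨3, 1⟩, ⟨2, 1⟩, ⟨2, 1⟩⟩, ⟨⟨0, 3⟩,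 ⟨2, 1⟩, ⟨0, 3⟩⟩⟩, 1, 2, 1, 0, 1), (⟨⟨⟨0, 3⟩, ⟨0, 3⟩, ⟨2, 1⟩⟩, ⟨⟨0, 3⟩, ⟨3, 1⟩, ⟨3, 1⟩⟩, ⟨⟨3, 1⟩, ⟨0, 3⟩, ⟨3, 1⟩⟩⟩, 1, 0, 1, 0, 1), (⟨⟨⟨0, 3⟩, ⟨0, 3⟩, ⟨3, 1⟩⟩, ⟨⟨2, 1⟩, ⟨0, 3⟩, ⟨2, 1⟩⟩, ⟨⟨0, 3⟩, ⟨2, 1⟩, ⟨2, 1⟩⟩⟩, 2, 0, 1, 1, 0), (⟨⟨⟨0, 3⟩, ⟨0, 3⟩, ⟨3, 1⟩⟩, ⟨⟨3, 1⟩, ⟨2, 1⟩, ⟨3, 1⟩⟩, ⟨⟨3, 1⟩, ⟨0, 3⟩, ⟨0, 3⟩⟩⟩, 2, 1, 1, 1, 0), (⟨⟨⟨0, 3⟩, ⟨0, 3⟩, ⟨3, 1⟩⟩, ⟨⟨0, 3⟩, ⟨3, 1⟩, ⟨0, 3⟩⟩, ⟨⟨2, 1⟩, ⟨3, 1⟩, ⟨3, 1⟩⟩⟩, 2, 2, 1, 1, 0), (⟨⟨⟨0, 3⟩, ⟨0, 3⟩, ⟨0, 3⟩⟩, ⟨⟨2, 1⟩, ⟨0, 3⟩, ⟨3, 1⟩⟩,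 ⟨⟨3, 1⟩, ⟨0, 3⟩, ⟨2, 1⟩⟩⟩, 0, 2, 1, 1, 1), (⟨⟨⟨0, 3⟩, ⟨0, 3⟩, ⟨0, 3⟩⟩, ⟨⟨3, 1⟩, ⟨2, 1⟩, ⟨0, 3⟩⟩, ⟨⟨2, 1⟩, ⟨3, 1⟩, ⟨0, 3⟩⟩⟩, 0, 0, 1, 1, 1), (⟨⟨⟨0, 3⟩, ⟨0, 3⟩, ⟨0, 3⟩⟩, ⟨⟨0, 3⟩, ⟨3, 1⟩, ⟨2, 1⟩⟩, ⟨⟨0, 3⟩, ⟨2, 1⟩, ⟨3, 1⟩⟩⟩, 0, 1, 1, 1, 1), (⟨⟨⟨2, 3⟩, ⟨0, 0⟩, ⟨0, 0⟩⟩, ⟨⟨0, 0⟩, ⟨1, 0⟩, ⟨0, 0⟩⟩, ⟨⟨0, 0⟩, ⟨0, 0⟩, ⟨2, 2⟩⟩⟩, 2, 1, 0, 0, 0), (⟨⟨⟨2, 3⟩, ⟨0, 0⟩, ⟨0, 0⟩⟩, ⟨⟨0, 0⟩, ⟨2, 2⟩, ⟨0, 0⟩⟩, ⟨⟨0, 0⟩, ⟨0, 0⟩, ⟨1, 0⟩⟩⟩, 2, 2, 0, 0, 0), (⟨⟨⟨2, 3⟩, ⟨0, 0⟩, ⟨0, 0⟩⟩, ⟨⟨0, 0⟩, ⟨2, 3⟩,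 ⟨0, 0⟩⟩, ⟨⟨0, 0⟩, ⟨0, 0⟩, ⟨2, 3⟩⟩⟩, 2, 0, 0, 0, 0), (⟨⟨⟨3, 3⟩, ⟨0, 0⟩, ⟨0, 0⟩⟩, ⟨⟨0, 0⟩, ⟨0, 0⟩, ⟨4, 0⟩⟩, ⟨⟨0, 0⟩, ⟨3, 2⟩, ⟨0, 0⟩⟩⟩, 1, 2, 2, 2, 0), (⟨⟨⟨3, 3⟩, ⟨0, 0⟩, ⟨0, 0⟩⟩, ⟨⟨0, 0⟩, ⟨0, 0⟩, ⟨3, 2⟩⟩, ⟨⟨0, 0⟩, ⟨4, 0⟩, ⟨0, 0⟩⟩⟩, 1, 1, 2, 2, 0), (⟨⟨⟨3, 3⟩, ⟨0, 0⟩, ⟨0, 0⟩⟩, ⟨⟨0, 0⟩, ⟨0, 0⟩, ⟨3, 3⟩⟩, ⟨⟨0, 0⟩, ⟨3, 3⟩, ⟨0, 0⟩⟩⟩, 1, 0, 2, 2, 0), (⟨⟨⟨2, 4⟩, ⟨0, 2⟩, ⟨0, 2⟩⟩, ⟨⟨0, 2⟩, ⟨2, 4⟩, ⟨0, 2⟩⟩, ⟨⟨2, 4⟩, ⟨2, 4⟩, ⟨3, 4⟩⟩⟩, 1, 0, 0, 3, 0), (⟨⟨⟨2, 4⟩, ⟨0, 2⟩, ⟨0, 2⟩⟩, ⟨⟨2,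 4⟩, ⟨3, 4⟩, ⟨2, 4⟩⟩, ⟨⟨0, 2⟩, ⟨0, 2⟩, ⟨2, 4⟩⟩⟩, 1, 2, 0, 3, 0), (⟨⟨⟨2, 4⟩, ⟨0, 2⟩, ⟨0, 2⟩⟩, ⟨⟨3, 4⟩, ⟨0, 2⟩, ⟨3, 4⟩⟩, ⟨⟨3, 4⟩, ⟨3, 4⟩, ⟨0, 2⟩⟩⟩, 1, 1, 0, 3, 0), (⟨⟨⟨2, 4⟩, ⟨0, 2⟩, ⟨2, 4⟩⟩, ⟨⟨0, 2⟩, ⟨2, 4⟩, ⟨2, 4⟩⟩, ⟨⟨0, 2⟩, ⟨0, 2⟩, ⟨3, 4⟩⟩⟩, 1, 0, 0, 2, 1), (⟨⟨⟨2, 4⟩, ⟨0, 2⟩, ⟨2, 4⟩⟩, ⟨⟨2, 4⟩, ⟨3, 4⟩, ⟨3, 4⟩⟩, ⟨⟨3, 4⟩, ⟨3, 4⟩, ⟨2, 4⟩⟩⟩, 1, 2, 0, 2, 1), (⟨⟨⟨2, 4⟩, ⟨0, 2⟩, ⟨2, 4⟩⟩, ⟨⟨3, 4⟩, ⟨0, 2⟩, ⟨0, 2⟩⟩, ⟨⟨2, 4⟩, ⟨2, 4⟩, ⟨0, 2⟩⟩⟩, 1, 1, 0, 2, 1), (⟨⟨⟨2, 4⟩, ⟨0, 2⟩, ⟨3,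 4⟩⟩, ⟨⟨0, 2⟩, ⟨2, 4⟩, ⟨3, 4⟩⟩, ⟨⟨3, 4⟩, ⟨3, 4⟩, ⟨3, 4⟩⟩⟩, 1, 0, 0, 3, 1), (⟨⟨⟨2, 4⟩, ⟨0, 2⟩, ⟨3, 4⟩⟩, ⟨⟨2, 4⟩, ⟨3, 4⟩, ⟨0, 2⟩⟩, ⟨⟨2, 4⟩, ⟨2, 4⟩, ⟨2, 4⟩⟩⟩, 1, 2, 0, 3, 1), (⟨⟨⟨2, 4⟩, ⟨0, 2⟩, ⟨3, 4⟩⟩, ⟨⟨3, 4⟩, ⟨0, 2⟩, ⟨2, 4⟩⟩, ⟨⟨0, 2⟩, ⟨0, 2⟩, ⟨0, 2⟩⟩⟩, 1, 1, 0, 3, 1), (⟨⟨⟨2, 4⟩, ⟨2, 4⟩, ⟨0, 2⟩⟩, ⟨⟨0, 2⟩, ⟨3, 4⟩, ⟨0, 2⟩⟩, ⟨⟨0, 2⟩, ⟨2, 4⟩, ⟨2, 4⟩⟩⟩, 0, 2, 1, 2, 1), (⟨⟨⟨2, 4⟩, ⟨2, 4⟩, ⟨0, 2⟩⟩, ⟨⟨2, 4⟩, ⟨0, 2⟩, ⟨2, 4⟩⟩, ⟨⟨3, 4⟩, ⟨0, 2⟩, ⟨0, 2⟩⟩⟩, 0, 1, 1, 2, 1), (⟨⟨⟨2, 4⟩,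 ⟨2, 4⟩, ⟨0, 2⟩⟩, ⟨⟨3, 4⟩, ⟨2, 4⟩, ⟨3, 4⟩⟩, ⟨⟨2, 4⟩, ⟨3, 4⟩, ⟨3, 4⟩⟩⟩, 0, 0, 1, 2, 1), (⟨⟨⟨2, 4⟩, ⟨2, 4⟩, ⟨2, 4⟩⟩, ⟨⟨0, 2⟩, ⟨3, 4⟩, ⟨2, 4⟩⟩, ⟨⟨3, 4⟩, ⟨0, 2⟩, ⟨2, 4⟩⟩⟩, 2, 0, 1, 3, 1), (⟨⟨⟨2, 4⟩, ⟨2, 4⟩, ⟨2, 4⟩⟩, ⟨⟨2, 4⟩, ⟨0, 2⟩, ⟨3, 4⟩⟩, ⟨⟨2, 4⟩, ⟨3, 4⟩, ⟨0, 2⟩⟩⟩, 2, 2, 1, 3, 1), (⟨⟨⟨2, 4⟩, ⟨2, 4⟩, ⟨2, 4⟩⟩, ⟨⟨3, 4⟩, ⟨2, 4⟩, ⟨0, 2⟩⟩, ⟨⟨0, 2⟩, ⟨2, 4⟩, ⟨3, 4⟩⟩⟩, 2, 1, 1, 3, 1), (⟨⟨⟨2, 4⟩, ⟨2, 4⟩, ⟨3, 4⟩⟩, ⟨⟨0, 2⟩, ⟨3, 4⟩, ⟨3, 4⟩⟩, ⟨⟨2, 4⟩, ⟨3, 4⟩, ⟨2, 4⟩⟩⟩, 1, 1, 1, 3, 0),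 (⟨⟨⟨2, 4⟩, ⟨2, 4⟩, ⟨3, 4⟩⟩, ⟨⟨2, 4⟩, ⟨0, 2⟩, ⟨0, 2⟩⟩, ⟨⟨0, 2⟩, ⟨2, 4⟩, ⟨0, 2⟩⟩⟩, 1, 0, 1, 3, 0), (⟨⟨⟨2, 4⟩, ⟨2, 4⟩, ⟨3, 4⟩⟩, ⟨⟨3, 4⟩, ⟨2, 4⟩, ⟨2, 4⟩⟩, ⟨⟨3, 4⟩, ⟨0, 2⟩, ⟨3, 4⟩⟩⟩, 1, 2, 1, 3, 0), (⟨⟨⟨2, 4⟩, ⟨3, 4⟩, ⟨0, 2⟩⟩, ⟨⟨0, 2⟩, ⟨0, 2⟩, ⟨0, 2⟩⟩, ⟨⟨3, 4⟩, ⟨2, 4⟩, ⟨0, 2⟩⟩⟩, 0, 0, 2, 3, 1), (⟨⟨⟨2, 4⟩, ⟨3, 4⟩, ⟨0, 2⟩⟩, ⟨⟨2, 4⟩, ⟨2, 4⟩, ⟨2, 4⟩⟩, ⟨⟨2, 4⟩, ⟨0, 2⟩, ⟨3, 4⟩⟩⟩, 0, 2, 2, 3, 1), (⟨⟨⟨2, 4⟩, ⟨3, 4⟩, ⟨0, 2⟩⟩, ⟨⟨3, 4⟩, ⟨3, 4⟩, ⟨3, 4⟩⟩, ⟨⟨0, 2⟩, ⟨3, 4⟩, ⟨2, 4⟩⟩⟩, 0, 1,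 2, 3, 1), (⟨⟨⟨2, 4⟩, ⟨3, 4⟩, ⟨2, 4⟩⟩, ⟨⟨0, 2⟩, ⟨0, 2⟩, ⟨2, 4⟩⟩, ⟨⟨2, 4⟩, ⟨0, 2⟩, ⟨0, 2⟩⟩⟩, 0, 2, 2, 3, 0), (⟨⟨⟨2, 4⟩, ⟨3, 4⟩, ⟨2, 4⟩⟩, ⟨⟨2, 4⟩, ⟨2, 4⟩, ⟨3, 4⟩⟩, ⟨⟨0, 2⟩, ⟨3, 4⟩, ⟨3, 4⟩⟩⟩, 0, 1, 2, 3, 0), (⟨⟨⟨2, 4⟩, ⟨3, 4⟩, ⟨2, 4⟩⟩, ⟨⟨3, 4⟩, ⟨3, 4⟩, ⟨0, 2⟩⟩, ⟨⟨3, 4⟩, ⟨2, 4⟩, ⟨2, 4⟩⟩⟩, 0, 0, 2, 3, 0), (⟨⟨⟨2, 4⟩, ⟨3, 4⟩, ⟨3, 4⟩⟩, ⟨⟨0, 2⟩, ⟨0, 2⟩, ⟨3, 4⟩⟩, ⟨⟨0, 2⟩, ⟨3, 4⟩, ⟨0, 2⟩⟩⟩, 0, 1, 2, 2, 1), (⟨⟨⟨2, 4⟩, ⟨3, 4⟩, ⟨3, 4⟩⟩, ⟨⟨2, 4⟩, ⟨2, 4⟩, ⟨0, 2⟩⟩, ⟨⟨3, 4⟩, ⟨2, 4⟩, ⟨3,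 4⟩⟩⟩, 0, 0, 2, 2, 1), (⟨⟨⟨2, 4⟩, ⟨3, 4⟩, ⟨3, 4⟩⟩, ⟨⟨3, 4⟩, ⟨3, 4⟩, ⟨2, 4⟩⟩, ⟨⟨2, 4⟩, ⟨0, 2⟩, ⟨2, 4⟩⟩⟩, 0, 2, 2, 2, 1), (⟨⟨⟨3, 4⟩, ⟨0, 2⟩, ⟨0, 2⟩⟩, ⟨⟨0, 2⟩, ⟨0, 2⟩, ⟨3, 4⟩⟩, ⟨⟨3, 4⟩, ⟨2, 4⟩, ⟨3, 4⟩⟩⟩, 2, 2, 2, 2, 1), (⟨⟨⟨3, 4⟩, ⟨0, 2⟩, ⟨0, 2⟩⟩, ⟨⟨2, 4⟩, ⟨2, 4⟩, ⟨0, 2⟩⟩, ⟨⟨2, 4⟩, ⟨0, 2⟩, ⟨2, 4⟩⟩⟩, 2, 1, 2, 2, 1), (⟨⟨⟨3, 4⟩, ⟨0, 2⟩, ⟨0, 2⟩⟩, ⟨⟨3, 4⟩, ⟨3, 4⟩, ⟨2, 4⟩⟩, ⟨⟨0, 2⟩, ⟨3, 4⟩, ⟨0, 2⟩⟩⟩, 2, 0, 2, 2, 1), (⟨⟨⟨3, 4⟩, ⟨0, 2⟩, ⟨2, 4⟩⟩, ⟨⟨0, 2⟩, ⟨0, 2⟩, ⟨0, 2⟩⟩, ⟨⟨2, 4⟩,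 ⟨0, 2⟩, ⟨3, 4⟩⟩⟩, 2, 1, 2, 3, 1), (⟨⟨⟨3, 4⟩, ⟨0, 2⟩, ⟨2, 4⟩⟩, ⟨⟨2, 4⟩, ⟨2, 4⟩, ⟨2, 4⟩⟩, ⟨⟨0, 2⟩, ⟨3, 4⟩, ⟨2, 4⟩⟩⟩, 2, 0, 2, 3, 1), (⟨⟨⟨3, 4⟩, ⟨0, 2⟩, ⟨2, 4⟩⟩, ⟨⟨3, 4⟩, ⟨3, 4⟩, ⟨3, 4⟩⟩, ⟨⟨3, 4⟩, ⟨2, 4⟩, ⟨0, 2⟩⟩⟩, 2, 2, 2, 3, 1), (⟨⟨⟨3, 4⟩, ⟨0, 2⟩, ⟨3, 4⟩⟩, ⟨⟨0, 2⟩, ⟨0, 2⟩, ⟨2, 4⟩⟩, ⟨⟨0, 2⟩, ⟨3, 4⟩, ⟨3, 4⟩⟩⟩, 2, 0, 2, 3, 0), (⟨⟨⟨3, 4⟩, ⟨0, 2⟩, ⟨3, 4⟩⟩, ⟨⟨2, 4⟩, ⟨2, 4⟩, ⟨3, 4⟩⟩, ⟨⟨3, 4⟩, ⟨2, 4⟩, ⟨2, 4⟩⟩⟩, 2, 2, 2, 3, 0), (⟨⟨⟨3, 4⟩, ⟨0, 2⟩, ⟨3, 4⟩⟩, ⟨⟨3, 4⟩, ⟨3, 4⟩, ⟨0, 2⟩⟩,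 ⟨⟨2, 4⟩, ⟨0, 2⟩, ⟨0, 2⟩⟩⟩, 2, 1, 2, 3, 0), (⟨⟨⟨3, 4⟩, ⟨2, 4⟩, ⟨0, 2⟩⟩, ⟨⟨0, 2⟩, ⟨2, 4⟩, ⟨3, 4⟩⟩, ⟨⟨2, 4⟩, ⟨2, 4⟩, ⟨2, 4⟩⟩⟩, 0, 1, 0, 3, 1), (⟨⟨⟨3, 4⟩, ⟨2, 4⟩, ⟨0, 2⟩⟩, ⟨⟨2, 4⟩, ⟨3, 4⟩, ⟨0, 2⟩⟩, ⟨⟨0, 2⟩, ⟨0, 2⟩, ⟨0, 2⟩⟩⟩, 0, 0, 0, 3, 1), (⟨⟨⟨3, 4⟩, ⟨2, 4⟩, ⟨0, 2⟩⟩, ⟨⟨3, 4⟩, ⟨0, 2⟩, ⟨2, 4⟩⟩, ⟨⟨3, 4⟩, ⟨3, 4⟩, ⟨3, 4⟩⟩⟩, 0, 2, 0, 3, 1), (⟨⟨⟨3, 4⟩, ⟨2, 4⟩, ⟨2, 4⟩⟩, ⟨⟨0, 2⟩, ⟨2, 4⟩, ⟨0, 2⟩⟩, ⟨⟨0, 2⟩, ⟨0, 2⟩, ⟨2, 4⟩⟩⟩, 0, 1, 0, 3, 0), (⟨⟨⟨3, 4⟩, ⟨2, 4⟩, ⟨2, 4⟩⟩, ⟨⟨2, 4⟩, ⟨3, 4⟩,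 ⟨2, 4⟩⟩, ⟨⟨3, 4⟩, ⟨3, 4⟩, ⟨0, 2⟩⟩⟩, 0, 0, 0, 3, 0), (⟨⟨⟨3, 4⟩, ⟨2, 4⟩, ⟨2, 4⟩⟩, ⟨⟨3, 4⟩, ⟨0, 2⟩, ⟨3, 4⟩⟩, ⟨⟨2, 4⟩, ⟨2, 4⟩, ⟨3, 4⟩⟩⟩, 0, 2, 0, 3, 0), (⟨⟨⟨3, 4⟩, ⟨2, 4⟩, ⟨3, 4⟩⟩, ⟨⟨0, 2⟩, ⟨2, 4⟩, ⟨2, 4⟩⟩, ⟨⟨3, 4⟩, ⟨3, 4⟩, ⟨2, 4⟩⟩⟩, 0, 1, 0, 2, 1), (⟨⟨⟨3, 4⟩, ⟨2, 4⟩, ⟨3, 4⟩⟩, ⟨⟨2, 4⟩, ⟨3, 4⟩, ⟨3, 4⟩⟩, ⟨⟨2, 4⟩, ⟨2, 4⟩, ⟨0, 2⟩⟩⟩, 0, 0, 0, 2, 1), (⟨⟨⟨3, 4⟩, ⟨2, 4⟩, ⟨3, 4⟩⟩, ⟨⟨3, 4⟩, ⟨0, 2⟩, ⟨0, 2⟩⟩, ⟨⟨0, 2⟩, ⟨0, 2⟩, ⟨3, 4⟩⟩⟩, 0, 2, 0, 2, 1), (⟨⟨⟨3, 4⟩, ⟨3, 4⟩, ⟨0, 2⟩⟩, ⟨⟨0,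 2⟩, ⟨3, 4⟩, ⟨3, 4⟩⟩, ⟨⟨0, 2⟩, ⟨2, 4⟩, ⟨0, 2⟩⟩⟩, 0, 2, 1, 3, 0), (⟨⟨⟨3, 4⟩, ⟨3, 4⟩, ⟨0, 2⟩⟩, ⟨⟨2, 4⟩, ⟨0, 2⟩, ⟨0, 2⟩⟩, ⟨⟨3, 4⟩, ⟨0, 2⟩, ⟨3, 4⟩⟩⟩, 0, 1, 1, 3, 0), (⟨⟨⟨3, 4⟩, ⟨3, 4⟩, ⟨0, 2⟩⟩, ⟨⟨3, 4⟩, ⟨2, 4⟩, ⟨2, 4⟩⟩, ⟨⟨2, 4⟩, ⟨3, 4⟩, ⟨2, 4⟩⟩⟩, 0, 0, 1, 3, 0), (⟨⟨⟨3, 4⟩, ⟨3, 4⟩, ⟨2, 4⟩⟩, ⟨⟨0, 2⟩, ⟨3, 4⟩, ⟨0, 2⟩⟩, ⟨⟨3, 4⟩, ⟨0, 2⟩, ⟨0, 2⟩⟩⟩, 2, 0, 1, 2, 1), (⟨⟨⟨3, 4⟩, ⟨3, 4⟩, ⟨2, 4⟩⟩, ⟨⟨2, 4⟩, ⟨0, 2⟩, ⟨2, 4⟩⟩, ⟨⟨2, 4⟩, ⟨3, 4⟩, ⟨3, 4⟩⟩⟩, 2, 2, 1, 2, 1), (⟨⟨⟨3, 4⟩, ⟨3, 4⟩, ⟨2,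 4⟩⟩, ⟨⟨3, 4⟩, ⟨2, 4⟩, ⟨3, 4⟩⟩, ⟨⟨0, 2⟩, ⟨2, 4⟩, ⟨2, 4⟩⟩⟩, 2, 1, 1, 2, 1), (⟨⟨⟨3, 4⟩, ⟨3, 4⟩, ⟨3, 4⟩⟩, ⟨⟨0, 2⟩, ⟨3, 4⟩, ⟨2, 4⟩⟩, ⟨⟨2, 4⟩, ⟨3, 4⟩, ⟨0, 2⟩⟩⟩, 1, 1, 1, 3, 1), (⟨⟨⟨3, 4⟩, ⟨3, 4⟩, ⟨3, 4⟩⟩, ⟨⟨2, 4⟩, ⟨0, 2⟩, ⟨3, 4⟩⟩, ⟨⟨0, 2⟩, ⟨2, 4⟩, ⟨3, 4⟩⟩⟩, 1, 0, 1, 3, 1), (⟨⟨⟨3, 4⟩, ⟨3, 4⟩, ⟨3, 4⟩⟩, ⟨⟨3, 4⟩, ⟨2, 4⟩, ⟨0, 2⟩⟩, ⟨⟨3, 4⟩, ⟨0, 2⟩, ⟨2, 4⟩⟩⟩, 1, 2, 1, 3, 1)]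

def wordR (i j k : ℕ) : M3 := M3.mul 5 (M3.pow 5 Zm i) (M3.mul 5 (M3.pow 5 a0 j) (M3.pow 5 b0 k))

def wordN (q : ℕ × ℕ × ℕ × ℕ × ℕ) : M3 :=
  M3.mul 5 (M3.pow 5 Zm q.1) (M3.mul 5 (M3.pow 5 a0 q.2.1) (M3.mul 5 (M3.pow 5 b0 q.2.2.1)
    (M3.mul 5 (M3.pow 5 h1 q.2.2.2.1) (M3.pow 5 h2 q.2.2.2.2))))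

/-- The matrix with given columns. -/
def colsM (u v w : V3) : M3 := ⟨⟨u.x, v.x, w.x⟩, ⟨u.y, v.y, w.y⟩, ⟨u.z, v.z, w.z⟩⟩

def c2' (v u1 u2 : V3) : Bool :=
  !(E.eqb 5 (herm 5 v u1) E0) || !(E.eqb 5 (herm 5 v u2) E0) || !(E.eqb 5 (herm 5 u1 u2) E0) ||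
    !(E.eqb 5 ((colsM v u1 u2).det 5) E1) || NL.any fun q => M3.eqb 5 (colsM v u1 u2) q.1

def c2 (v : V3) (m : M3) : Bool := c2' v (m.app 5 v) (m.app 5 (m.app 5 v))

theorem chkN : all3 5 (fun v => !(E.eqb 5 (herm 5 v v) E1) || !(R1L.any fun m => V3.eqb 5 (m.app 5 v) v) ||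
    R0L.all (c2 v)) = true := by decide +kernel

theorem chkNL : (NL.all fun q => M3.eqb 5 q.1 (wordN q.2)) = true := by decide +kernel

theorem st_Z : stabCk 5 mask2 Zm = true := by decide +kernel
theorem st_a : stabCk 5 mask2 a0 = true := by decide +kernel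
theorem st_b : stabCk 5 mask2 b0 = true := by decide +kernel
theorem st_h1 : stabCk 5 mask2 h1 = true := by decide +kernel
theorem st_h2 : stabCk 5 mask2 h2 = true := by decide +kernel
theorem st_A : stabCk 5 mask2 gA2 = true := by decide +kernel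
theorem wit_B : inM 5 mask2 w2 = true ∧ inM 5 mask2 (gB2.app 5 w2) = false := by decide +kernel

theorem su_Z : isSU 5 Zm = true := by decide +kernel
theorem su_a : isSU 5 a0 = true := by decide +kernel
theorem su_b : isSU 5 b0 = true := by decide +kernel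
theorem su_A : isSU 5 gA2 = true := by decide +kernel
theorem su_B : isSU 5 gB2 = true := by decide +kernel

theorem not_norm : (R0L.all fun m => !(M3.eqb 5 (gA2.mul 5 a0) (m.mul 5 gA2))) = true := by decide +kernel

def r3 : List ℕ := [0, 1, 2]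

theorem words_inj : (r3.all fun i => r3.all fun j => r3.all fun k => r3.all fun i' => r3.all fun j' => r3.all fun k' =>
    !(M3.eqb 5 (wordR i j k) (wordR i' j' k')) || (Nat.beq i i' && Nat.beq j j' && Nat.beq k k')) = true := by decide +kernel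

theorem words_mem : (r3.all fun i => r3.all fun j => r3.all fun k => R0L.any (M3.eqb 5 (wordR i j k))) = true := by decide +kernel

end Cfsg.Agent.Lib.Classical.Asch.SU3D
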